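import Cfsg.Agent.Lib.Helper39.LocFree2
import Cfsg.Agent.Lib.Helper68.SFQd

set_option autoImplicit false

namespace Cfsg.Agent.Lib.QDU
open Module Function Cfsg.Agent.Lib.Helper39 Cfsg.Agent.Lib.Helper68 Cfsg.Agent.Lib.Helper57.Qd

/-- Q1 -/
theorem not_LF_qd (p : ℕ) [Fact p.Prime] (hp : p ≠ 2) : ¬ LF p ↥(Cfsg.qd p) := by
  intro h
  have hV : qdV p ≤ Cfsg.pCore p ↥(Cfsg.qd p) := le_sSup ⟨qdV_normal, qdV_isPGroup⟩
  have hC : Subgroup.centralizer ((Cfsg.pCore p ↥(Cfsg.qd p) : Subgroup ↥(Cfsg.qd p)) : Set ↥(Cfsg.qd p))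
      ≤ Cfsg.pCore p ↥(Cfsg.qd p) :=
    (Subgroup.centralizer_le hV).trans (centralizer_qdV_le.trans hV)
  refine h.not_involves_qd hC ?_
  exact involves_of_span (MonoidHom.id _) (fun _ _ h => h) (MonoidHom.id _) Function.surjective_id

/-- Q2 -/
theorem not_involves_of_LF (p : ℕ) [Fact p.Prime] (hp : p ≠ 2) {X : Type*} [Group X] [Finite X]
    (h : LF p X) : ¬ Cfsg.Involves ↥(Cfsg.qd p) X := by
  intro h1
  obtain ⟨K, f, hf⟩ := exists_span_of_involves h1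
  exact not_LF_qd p hp ((h.subgroup K).quotient f hf)

end Cfsg.Agent.Lib.QDU
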