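import Cfsg.Agent.Lib.Helper89.QDU.A1
import Cfsg.Agent.Lib.Helper89.QDU.Q1
import Cfsg.Agent.Lib.Helper89.QDU.Q4

set_option autoImplicit false
set_option linter.unusedSectionVars false

namespace Cfsg.Agent.Lib.QDU
open Module Function Cfsg.Agent.Lib.Helper97 Cfsg.Agent.Lib.Helper39

section conc
variable {K : Type*} [Field K] [Fintype K]

/-- the natural representation of `SU_3`. -/
noncomputable def suRep (q : ℕ) : ↥(Cfsg.SU 3 K q) →* Module.End K (Fin 3 → K) where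
  toFun g := Matrix.mulVecLin ((g : Matrix.SpecialLinearGroup (Fin 3) K) : Matrix (Fin 3) (Fin 3) K)
  map_one' := by
    simp
    rfl
  map_mul' a b := by
    simp [Matrix.mulVecLin_mul]
    rfl

theorem suRep_apply (q : ℕ) (g : ↥(Cfsg.SU 3 K q)) (v : Fin 3 → K) :
    suRep q g v = Matrix.mulVec ((g : Matrix.SpecialLinearGroup (Fin 3) K) : Matrix (Fin 3) (Fin 3) K) v := rfl

theorem suRep_injective (q : ℕ) : Function.Injective (suRep (K := K) q) := by
  intro a b hab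
  apply Subtype.ext
  apply Subtype.ext
  have : Matrix.mulVecLin ((a : Matrix.SpecialLinearGroup (Fin 3) K) : Matrix (Fin 3) (Fin 3) K)
      = Matrix.mulVecLin ((b : Matrix.SpecialLinearGroup (Fin 3) K) : Matrix (Fin 3) (Fin 3) K) := hab
  exact Matrix.toLin'.injective this

theorem suRep_preserves (q : ℕ) (g : ↥(Cfsg.SU 3 K q)) (x y : Fin 3 → K) :
    Cfsg.hermForm 3 K q (suRep q g x) (suRep q g y) = Cfsg.hermForm 3 K q x y :=
  g.2 x y

theorem LF_SU3 {p : ℕ} [Fact p.Prime] (hp : p ≠ 2) [CharP K p] (q : ℕ)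
    (hK : Fintype.card K = q ^ 2) : LF p ↥(Cfsg.SU 3 K q) := by
  apply LF_of_local p hp
  intro Q hQ hne x hx
  obtain ⟨g₀, hg₀, hg1⟩ : ∃ g₀ ∈ Q, g₀ ≠ 1 := by
    by_contra hcon
    push Not at hcon
    exact hne ((Subgroup.eq_bot_iff_forall _).mpr hcon)
  have hU := hermUF hK 3
  have h3 : finrank K (Fin 3 → K) = 3 := by simp
  have hne' : suRep q g₀ ≠ 1 := by
    intro h
    apply hg1
    apply suRep_injective q
    rw [h, map_one]
  obtain ⟨e, he, hee, hN⟩ := exists_invariant_line hU h3 p (suRep q) (suRep_preserves q) Q hQ g₀ hg₀ hne'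
  have h4 := comm_unip hU h3 (suRep q) (suRep_preserves q) e he hee _ hN x hx
  have h5 := pow_p_eq_one p hp _ h4
  apply suRep_injective q
  rw [map_pow, h5, map_one]

theorem LF_PSU3 {p : ℕ} [Fact p.Prime] (hp : p ≠ 2) [CharP K p] (q : ℕ)
    (hK : Fintype.card K = q ^ 2) : LF p (Cfsg.PSU 3 K q) :=
  (LF_SU3 hp q hK).quotient (QuotientGroup.mk' _) (QuotientGroup.mk'_surjective _)

theorem not_involves_qd_PSU3 {p : ℕ} [Fact p.Prime] (hp : p ≠ 2) [CharP K p] (q : ℕ)
    (hK : Fintype.card K = q ^ 2) : ¬ Cfsg.Involves ↥(Cfsg.qd p) (Cfsg.PSU 3 K q) :=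
  not_involves_of_LF p hp (LF_PSU3 hp q hK)

end conc

end Cfsg.Agent.Lib.QDU
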